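import Groth.Agent.AmpleDesc5.Proper
import Groth.Agent.CohPullX.ProperModel
import Groth.Agent.H26.FibModel
import Groth.Agent.FlatProper5.Main

/-!
# Flat proper Noetherian models carrying an invertible module
-/

set_option autoImplicit false
set_option maxHeartbeats 1000000
set_option synthInstance.maxHeartbeats 400000
set_option linter.style.haveILetI false
set_option backward.isDefEq.respectTransparency.types false
set_option backward.isDefEq.respectTransparency false

universe u

open CategoryTheory CategoryTheory.Limits AlgebraicGeometry TopologicalSpace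
open Groth.Agent.ConsPropLib

namespace Groth.Agent.ThickVan

open NoethApprox in
/-- A flat proper morphism of finite presentation with an invertible sheaf has a flat Noetherian model. -/
theorem exists_flat_model {A : CommRingCat.{u}} {X : Scheme.{u}} (f : X ⟶ Spec A) [IsProper f] [Flat f]
    [LocallyOfFinitePresentation f] {L : X.Modules} (hL : PicF.IsInvertible L) :
    ∃ (S₀ X₀ : Scheme.{u}) (ρ : Spec A ⟶ S₀) (f₀ : X₀ ⟶ S₀) (q : X ⟶ X₀) (L₀ : X₀.Modules),
      IsNoetherian S₀ ∧ IsProper f₀ ∧ Flat f₀ ∧ LocallyOfFinitePresentation f₀ ∧ IsPullback q f f₀ ρ ∧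
        PicF.IsInvertible L₀ ∧ Nonempty ((Scheme.Modules.pullback q).obj L₀ ≅ L) := by
  obtain ⟨i, Xi, fi, g, hm⟩ := hasModel (NoethApprox.isLimit A) (c := NoethApprox.cone A) f
  haveI := hm.qc; haveI := hm.qs
  haveI : CompactSpace Xi := hm.compactSpace
  haveI : QuasiSeparatedSpace Xi := hm.quasiSeparatedSpace
  obtain ⟨l, φ, hl⟩ := core_isProper _ (diagram A) (NoethApprox.cone A) (NoethApprox.isLimit A)
    (fun _ _ _ => inferInstance) i inferInstance fi inferInstance inferInstance hm.lfp
    (MorLib.Desc.of_two @IsProper hm.sq (IsPullback.of_hasPullback _ _) inferInstance)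
  haveI := hl
  have hl' := hm.pushed φ
  let fl := pullback.snd fi ((diagram A).map φ)
  haveI : LocallyOfFinitePresentation fl := hl'.lfp
  haveI : CompactSpace ↥(pullback fi ((diagram A).map φ)) := hl'.compactSpace
  haveI : QuasiSeparatedSpace ↥(pullback fi ((diagram A).map φ)) := hl'.quasiSeparatedSpace
  let D' := MorLib.BC.diag (diagram A) fl
  have hc' := MorLib.BC.isLimitCone (diagram A) fl (c := NoethApprox.cone A) hl'.sq (NoethApprox.isLimit A)
  haveI : ∀ {a b : Over l} (r : a ⟶ b), IsAffineHom (D'.map r) := fun r => MorLib.BC.isAffineHom_map _ fl r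
  haveI : ∀ a, CompactSpace (D'.obj a) := fun a => MorLib.BC.compactSpace_obj (diagram A) fl a
  haveI : ∀ a, QuasiSeparatedSpace (D'.obj a) := fun a => MorLib.BC.quasiSeparatedSpace_obj (diagram A) fl a
  obtain ⟨j, M, hM, ⟨eM⟩⟩ := AmpleDesc5.exists_invertible_stage D' hc' (L := L) hL
  let fj := pullback.snd fl ((diagram A).map j.hom)
  haveI : LocallyOfFinitePresentation fj := inferInstance
  haveI : CompactSpace ↥(pullback fl ((diagram A).map j.hom)) := MorLib.BC.compactSpace_obj (diagram A) fl j
  have sqj : IsPullback (MorLib.BC.proj (diagram A) fl (c := NoethApprox.cone A) hl'.sq j) f fj ((NoethApprox.cone A).π.app j.left) :=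
    MorLib.BC.isPullback_proj (diagram A) fl (c := NoethApprox.cone A) hl'.sq j
  haveI : Flat (pullback.snd fj ((NoethApprox.cone A).π.app j.left)) := by
    rw [← sqj.isoPullback_inv_snd]; infer_instance
  have hflat : FlatMod.IsFlatOver (pullback.snd fj ((NoethApprox.cone A).π.app j.left))
      ((Scheme.Modules.pullback (pullback.fst fj ((NoethApprox.cone A).π.app j.left))).obj
        (Coh.structureModule _)) := fun x =>
    GrFlat5.isFlatOverAt_of_iso _ (PicClLib.nonempty_pullback_structureModule _).some.symm x
      (H26.FibModel.isFlatOver_structureModule _ x)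
  obtain ⟨k, ψ, hk⟩ := CohPullX.exists_flat_stage_module (diagram A) (NoethApprox.isLimit A) j.left fj
    (AmpleDesc5.isFP_of_isInvertible (InvX.isInvertible_structureModule)) hflat
  have hf₀ : Flat (pullback.snd fj ((diagram A).map ψ)) := by
    refine (Flat.iff_flat_stalkMap _).2 fun x => ?_
    exact (FlatProper5.flatAt_structureModule_iff _ x).1
      (GrFlat5.isFlatOverAt_of_iso _ (PicClLib.nonempty_pullback_structureModule _).some x (hk x))
  let q : X ⟶ pullback fj ((diagram A).map ψ) :=
    pullback.lift (MorLib.BC.proj (diagram A) fl (c := NoethApprox.cone A) hl'.sq j) (f ≫ (NoethApprox.cone A).π.app k)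
      (by rw [Category.assoc, (NoethApprox.cone A).w]; exact sqj.w)
  have hq1 : q ≫ pullback.fst fj ((diagram A).map ψ) = MorLib.BC.proj (diagram A) fl (c := NoethApprox.cone A) hl'.sq j :=
    pullback.lift_fst _ _ _
  refine ⟨(diagram A).obj k, _, (NoethApprox.cone A).π.app k, pullback.snd fj ((diagram A).map ψ), q,
    (Scheme.Modules.pullback (pullback.fst fj ((diagram A).map ψ))).obj M, inferInstance, inferInstance,
    hf₀, inferInstance, ?_, PicClLib.isInvertible_pullback _ hM, ⟨?_⟩⟩
  · refine IsPullback.of_right ?_ (pullback.lift_snd _ _ _) (IsPullback.of_hasPullback fj ((diagram A).map ψ))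
    rw [hq1, (NoethApprox.cone A).w]
    exact sqj
  · exact (Scheme.Modules.pullbackComp q _).app M ≪≫ (Scheme.Modules.pullbackCongr hq1).app M ≪≫ eM

end Groth.Agent.ThickVan
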