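import Groth.Agent.ThickVan.BC
import Groth.Agent.ThickVan.Model
import Groth.Agent.KFlatLib.Scheme.VanishLocFree
import Groth.Agent.CohPullX.FpExchange
import Groth.Agent.H9Misc.RelExtTwistVanish
import Groth.Agent.H23.Seesaw
import Groth.Agent.QCoh.Support
import Groth.Prelude.Def_MoreMor

/-!
# Uniform vanishing of the cohomology of powers of an ample module over all thickenings
-/

set_option autoImplicit false
set_option maxHeartbeats 1000000
set_option synthInstance.maxHeartbeats 400000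
set_option linter.style.haveILetI false
set_option backward.isDefEq.respectTransparency false
set_option backward.isDefEq.respectTransparency.types false

universe u

open CategoryTheory CategoryTheory.Limits AlgebraicGeometry TopologicalSpace

open scoped Groth.Agent.H23.PicMul

namespace Groth.Agent.ThickVan

/-- The points with ample fibre of a proper morphism to a Noetherian scheme form an open. -/
theorem isOpen_ampleLocus {X₀ S₀ : Scheme.{u}} (f₀ : X₀ ⟶ S₀) [IsProper f₀] [IsLocallyNoetherian S₀]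
    {L₀ : X₀.Modules} (hL₀ : PicF.IsInvertible L₀) :
    IsOpen {s : S₀ | CohB1.IsAmple ((Scheme.Modules.pullback (f₀.fiberι s)).obj L₀)} := by
  refine isOpen_iff_forall_mem_open.2 fun s hs => ?_
  obtain ⟨V₀, hsV₀, hV₀⟩ := AmpleVan.Near.exists_nhds_isAmple f₀ hL₀ s hs
  refine ⟨V₀, fun s' hs' => ?_, V₀.2, hsV₀⟩
  obtain ⟨W, hW, hsW, hWV⟩ := exists_isAffineOpen_mem_and_subset (x := s') (U := V₀) hs'
  have hamp := hV₀ W hWV hW
  haveI : IsAffine (W : Scheme.{u}) := hW
  have sqW : IsPullback (f₀ ⁻¹ᵁ W).ι (f₀ ∣_ W) f₀ W.ι := (isPullback_morphismRestrict f₀ W).flip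
  refine (AmpleDesc5.isAmple_fibre_iff sqW hL₀ ⟨s', hsW⟩).1 ?_
  haveI : IsAffineHom ((f₀ ∣_ W).fiberι ⟨s', hsW⟩) :=
    MorphismProperty.pullback_fst _ _ (isAffineHom_of_isAffine _)
  haveI : CompactSpace ↥((f₀ ∣_ W).fiber ⟨s', hsW⟩) :=
    QuasiCompact.compactSpace_of_compactSpace ((f₀ ∣_ W).fiberToSpecResidueField ⟨s', hsW⟩)
  exact AmpleVan.FiniteSurj.isAmple_pullback_of_isAffineHom _
    (AmpleX.isAmple_of_iso ((Scheme.Modules.restrictFunctorIsoPullback _).app L₀) hamp)

/-- Uniform vanishing on the fibres, Noetherian base. -/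
theorem exists_fibre_vanishing_noetherian {X S : Scheme.{u}} (f : X ⟶ S) [IsProper f] [Flat f] [IsNoetherian S]
    [LocallyOfFinitePresentation f] {L : X.Modules} (hL : PicF.IsInvertible L) (ha : RelAmple.IsRelAmple f L) :
    ∃ d₀ : ℕ, ∀ d, d₀ ≤ d → ∀ (s : S) (p : ℕ), 0 < p →
      Subsingleton (CohIII.fiberH f (CohB1.tensorPow L d) s p) := by
  haveI : IsLocallyNoetherian X := LocallyOfFiniteType.isLocallyNoetherian f
  obtain ⟨n₀, hn₀⟩ := AmpleVan.RelVanish.exists_vanishing f hL (fun W hW => ha.2 ⟨W, hW⟩)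
    (AmpleVan.isCoh_invertible (InvX.isInvertible_structureModule (X := X)))
  refine ⟨n₀, fun d hd s p hp => subsingleton_fiberH_of_iso f (H23.PicMul.cl_eq_iff.1
    ((H23.PicMul.cl_tensor (Coh.structureModule X) (CohB1.tensorPow L d)).trans
      (by rw [← H23.PicMul.one_def, one_mul]))).some s p ?_⟩
  let G := CohB1.tensorMod (Coh.structureModule X) (CohB1.tensorPow L d)
  have hG : PicF.IsInvertible G :=
    H23.PicMul.isInvertible_tensor InvX.isInvertible_structureModule (InvX.isInvertible_tensorPow hL d)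
  refine KFlatLib.VanishLocFree.subsingleton_fiberH_of_vanish (f := f) (AmpleDesc5.isFP_of_isInvertible hG)
    (H23.Seesaw.isFlatOver_of_isInvertible f hG) (fun i hi => ?_) s p hp
  obtain ⟨i, rfl⟩ : ∃ j, i = j + 1 := ⟨i - 1, by omega⟩
  exact H9Misc.RelExtTwistVanish.isZero_Rpush_of_RpushAb f G i (hn₀ d hd _ (Nat.succ_pos i))

/-- Uniform vanishing on the fibres over a quasi-compact base. -/
theorem exists_fibre_vanishing {X S : Scheme.{u}} (f : X ⟶ S) [IsProper f] [Flat f]
    [LocallyOfFinitePresentation f] [CompactSpace S] {L : X.Modules} (hL : PicF.IsInvertible L)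
    (ha : RelAmple.IsRelAmple f L) :
    ∃ d₀ : ℕ, ∀ d, d₀ ≤ d → ∀ (s : S) (p : ℕ), 0 < p →
      Subsingleton (CohIII.fiberH f (CohB1.tensorPow L d) s p) := by
  classical
  have hloc : ∀ V : S.affineOpens, ∃ d₀ : ℕ, ∀ d, d₀ ≤ d → ∀ s ∈ V.1, ∀ (p : ℕ), 0 < p →
      Subsingleton (CohIII.fiberH f (CohB1.tensorPow L d) s p) := by
    intro V
    let j := V.2.fromSpec
    let fst := pullback.fst f j
    let fV := pullback.snd f j
    have hLV : PicF.IsInvertible ((Scheme.Modules.pullback fst).obj L) := PicClLib.isInvertible_pullback _ hL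
    obtain ⟨S₀, X₀, ρ, f₀, q, L₀, hN, hp₀, hfl₀, hlfp₀, sq, hL₀, ⟨e⟩⟩ := exists_flat_model fV hLV
    haveI := hN; haveI := hp₀; haveI := hfl₀; haveI := hlfp₀
    let U₀ : S₀.Opens := ⟨_, isOpen_ampleLocus f₀ hL₀⟩
    let f' := f₀ ∣_ U₀
    let L' := (Scheme.Modules.pullback (f₀ ⁻¹ᵁ U₀).ι).obj L₀
    have sqU : IsPullback (f₀ ⁻¹ᵁ U₀).ι f' f₀ U₀.ι := (isPullback_morphismRestrict f₀ U₀).flip
    haveI : CompactSpace (U₀ : Scheme.{u}) :=
      isCompact_iff_compactSpace.1 (NoetherianSpace.isCompact _)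
    haveI : IsNoetherian (U₀ : Scheme.{u}) := {}
    haveI : LocallyOfFinitePresentation f' := IsZariskiLocalAtTarget.restrict hlfp₀ U₀
    haveI : Flat f' := IsZariskiLocalAtTarget.restrict hfl₀ U₀
    have hL' : PicF.IsInvertible L' := PicClLib.isInvertible_pullback _ hL₀
    have hA' : RelAmple.IsRelAmple f' L' := (AmpleDesc5.isRelAmple_iff_forall_fibre f' hL').2 fun t =>
      (AmpleDesc5.isAmple_fibre_iff sqU hL₀ t).2 t.2
    obtain ⟨d₀, hd₀⟩ := exists_fibre_vanishing_noetherian f' hL' hA'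
    refine ⟨d₀, fun d hd s hs p hp => ?_⟩
    obtain ⟨t, rfl⟩ := V.2.range_fromSpec.ge hs
    have hamp : CohB1.IsAmple ((Scheme.Modules.pullback (fV.fiberι t)).obj ((Scheme.Modules.pullback fst).obj L)) :=
      (AmpleDesc5.isAmple_fibre_iff (IsPullback.of_hasPullback f j) hL t).2
        ((AmpleDesc5.isRelAmple_iff_forall_fibre f hL).1 ha _)
    have htU : ρ t ∈ U₀ := (AmpleDesc5.isAmple_fibre_iff sq hL₀ t).1
      (AmpleX.isAmple_of_iso ((Scheme.Modules.pullback _).mapIso e).symm hamp)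
    have hq : ∀ {Y : Scheme.{u}} {N : Y.Modules}, PicF.IsInvertible N → Coh.IsQCoh (CohB1.tensorPow N d) :=
      fun hN => AmpleDesc5.isQCoh_of_isInvertible (InvX.isInvertible_tensorPow hN d)
    have h2 : Subsingleton (CohIII.fiberH f₀ (CohB1.tensorPow L₀ d) (ρ t) p) :=
      (subsingleton_fiberH_iff sqU (hq hL₀) ⟨ρ t, htU⟩ p).1
        (subsingleton_fiberH_of_iso f' (tensorPow_pullback_iso (p := (f₀ ⁻¹ᵁ U₀).ι) (L₀ := L₀) (Iso.refl L') d).some.symm
          _ p (hd₀ d hd ⟨ρ t, htU⟩ p hp))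
    exact (subsingleton_fiberH_iff (IsPullback.of_hasPullback f j) (hq hL) t p).1
      (subsingleton_fiberH_of_iso fV (tensorPow_pullback_iso (p := fst) (Iso.refl _) d).some.symm t p
        (subsingleton_fiberH_of_iso fV (tensorPow_pullback_iso (p := q) e d).some t p
          ((subsingleton_fiberH_iff sq (hq hL₀) t p).2 h2)))
  choose d hd using hloc
  obtain ⟨B, hBfin, hBT⟩ := isCompact_iff_finite_and_eq_biUnion_affineOpens.mp
    (show IsCompact ((⊤ : S.Opens) : Set S) by simpa using isCompact_univ)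
  refine ⟨hBfin.toFinset.sup d, fun n hn s p hp => ?_⟩
  have hs : s ∈ (⊤ : S.Opens) := trivial
  rw [hBT] at hs
  obtain ⟨V, hV, hsV⟩ : ∃ V ∈ B, s ∈ (V : S.affineOpens).1 := by simpa using hs
  exact hd V n ((Finset.le_sup (hBfin.mem_toFinset.2 hV)).trans hn) s hsV p hp

/-- Higher cohomology over affine opens vanishes and the direct image is locally free when the higher cohomology
of all fibres vanishes. -/
theorem vanish_and_locFree {X S : Scheme.{u}} (f : X ⟶ S) [IsProper f] [Flat f] [LocallyOfFinitePresentation f]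
    {M : X.Modules} (hM : PicF.IsInvertible M)
    (h : ∀ (s : S) (p : ℕ), 0 < p → Subsingleton (CohIII.fiberH f M s p)) :
    (∀ (U : S.Opens) (p : ℕ), IsAffineOpen U → 0 < p → Subsingleton (Coh.HHon X M (f ⁻¹ᵁ U) p)) ∧
      FlatMod.IsFinLocFree ((Scheme.Modules.pushforward f).obj M) := by
  haveI : HasInjectiveResolutions X.Modules := inferInstance
  have hfp : CohB1.IsFP M := AmpleDesc5.isFP_of_isInvertible hM
  have hfl := H23.Seesaw.isFlatOver_of_isInvertible f hM
  have hq : Coh.IsQCoh M := QCoh.isQCoh_of_isFP hfp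
  have hz : ∀ p : ℕ, 0 < p → IsZero ((Coh.Rpush f p).obj M) := fun p hp => by
    have hloc := fun y => CohPullX.exists_vanish_nhd hfp hfl y p (h y p hp)
    choose U hyU hUa hsub _ using hloc
    exact QCoh.isZero_of_cover (QCoh.isQCoh_Rpush f hq p) U hUa (fun y => ⟨y, hyU y⟩) hsub
  refine ⟨fun U p hU hp => ?_, ?_⟩
  · letI := QCoh.modHH (QCoh.rhoV f U) (M.restrict (f ⁻¹ᵁ U).ι) p
    obtain ⟨e⟩ := QCoh.nonempty_sections_HH (f := f) hq hU p
    haveI := QCoh.subsingleton_Γ_of_isZero (hz p hp) U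
    exact e.symm.toEquiv.subsingleton
  · haveI := SpObjSS.enoughInjectives_of_hasInjectiveResolutions (C := X.Modules)
    haveI := QCoh.preservesFiniteLimits_push f
    exact H23.PullPush.isFinLocFree_of_iso ((Scheme.Modules.pushforward f).rightDerivedZeroIsoSelf.app M)
      (KFlatLib.VanishLocFree.isFinLocFree_push_proper hfp hfl hz)

/-- The statement over all thickenings. -/
theorem exists_uniform {X S : Scheme.{u}} (f : X ⟶ S) [IsProper f] [Flat f] [LocallyOfFinitePresentation f]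
    [CompactSpace S] (L : X.Modules) (hL : RelAmple.IsRelAmple f L) (hinv : PicF.IsInvertible L) :
    ∃ d₀ : ℕ, ∀ (X' S' : Scheme.{u}) (i : S ⟶ S') (i' : X ⟶ X') (f' : X' ⟶ S'), Function.Surjective i →
      IsPullback i' f f' i → IsProper f' → Flat f' → LocallyOfFinitePresentation f' →
      ∀ (L' : X'.Modules), PicF.IsInvertible L' → Nonempty ((Scheme.Modules.pullback i').obj L' ≅ L) →
      ∀ d : ℕ, d₀ ≤ d →
        (∀ (U : S'.Opens) (p : ℕ), IsAffineOpen U → 0 < p →
          Subsingleton (Coh.HHon X' (CohB1.tensorPow L' d) (f' ⁻¹ᵁ U) p)) ∧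
        FlatMod.IsFinLocFree ((Scheme.Modules.pushforward f').obj (CohB1.tensorPow L' d)) := by
  obtain ⟨d₀, hd₀⟩ := exists_fibre_vanishing f hinv hL
  refine ⟨d₀, fun X' S' i i' f' hi hc hp hf hfp L' hL' e d hd => ?_⟩
  haveI := hp; haveI := hf; haveI := hfp
  have hLd := InvX.isInvertible_tensorPow hL' d
  refine vanish_and_locFree f' hLd fun s' p hp' => ?_
  obtain ⟨s, rfl⟩ := hi s'
  exact (subsingleton_fiberH_iff hc (AmpleDesc5.isQCoh_of_isInvertible hLd) s p).1
    (subsingleton_fiberH_of_iso f (tensorPow_pullback_iso (p := i') e.some d).some.symm s p (hd₀ d hd s p hp'))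

end Groth.Agent.ThickVan
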