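import Groth.Agent.ConsPropLib.Fibre
import Groth.Agent.QCoh.FlatBC
import Groth.Agent.AmpleVan.RelVanish

/-!
# Vanishing of the cohomology of fibres under base change, and of tensor powers
-/

set_option autoImplicit false
set_option linter.style.haveILetI false
set_option backward.isDefEq.respectTransparency false
set_option backward.isDefEq.respectTransparency.types false

universe u

open CategoryTheory CategoryTheory.Limits AlgebraicGeometry
open scoped TensorProduct

namespace Groth.Agent.ThickVan

variable {X S X' S' : Scheme.{u}} {p : X' ⟶ X} {u' : X' ⟶ S'} {u : X ⟶ S} {h : S' ⟶ S}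

/-- Vanishing of the cohomology of a fibre does not depend on the field. -/
theorem subsingleton_fiberH_iff (sq : IsPullback p u' u h) [QuasiCompact u] [QuasiSeparated u] {M : X.Modules}
    (hM : Coh.IsQCoh M) (s' : S') (q : ℕ) :
    Subsingleton (CohIII.fiberH u' ((Scheme.Modules.pullback p).obj M) s' q) ↔
      Subsingleton (CohIII.fiberH u M (h s') q) := by
  obtain ⟨e, he, hc⟩ := ConsPropLib.exists_fibre_pullback sq s'
  let A := S.residueField (h s')
  let B := S'.residueField s'
  letI : Algebra A B := (h.residueFieldMap s').hom.toAlgebra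
  haveI : CompactSpace ↥(u.fiber (h s')) :=
    QuasiCompact.compactSpace_of_compactSpace (u.fiberToSpecResidueField (h s'))
  haveI : QuasiSeparated (u.fiberToSpecResidueField (h s')) :=
    inferInstanceAs (QuasiSeparated (pullback.snd u (S.fromSpecResidueField (h s'))))
  haveI : QuasiSeparatedSpace ↥(u.fiber (h s')) :=
    quasiSeparatedSpace_of_quasiSeparated (u.fiberToSpecResidueField (h s'))
  have hF : Coh.IsQCoh (CohIII.fiberMod u M (h s')) := QCoh.isQCoh_pullback _ hM
  haveI : Module.Free A B := Module.Free.of_divisionRing A B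
  letI := QCoh.modHH (Coh.toGlobal (u.fiberToSpecResidueField (h s'))) (CohIII.fiberMod u M (h s')) q
  letI := QCoh.modHH (Coh.toGlobal (u'.fiberToSpecResidueField s'))
    ((Scheme.Modules.pullback e).obj (CohIII.fiberMod u M (h s'))) q
  obtain ⟨g⟩ := QCoh.HH_flatBaseChange (A := A) (B := B) (pA := u.fiberToSpecResidueField (h s'))
    (pB := u'.fiberToSpecResidueField s') (φ := e) he hF q
  let t : (Scheme.Modules.pullback e).obj (CohIII.fiberMod u M (h s')) ≅
      CohIII.fiberMod u' ((Scheme.Modules.pullback p).obj M) s' :=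
    (Scheme.Modules.pullbackComp _ _).app M ≪≫ (Scheme.Modules.pullbackCongr hc).app M ≪≫
      ((Scheme.Modules.pullbackComp _ _).app M).symm
  constructor
  · intro hs
    haveI := QCoh.subsingleton_HH_of_iso t.symm q hs
    haveI := g.toEquiv.subsingleton
    exact Module.FaithfullyFlat.lTensor_reflects_triviality A B _
  · intro hs
    haveI : Subsingleton (B ⊗[A] CohIII.fiberH u M (h s') q) := inferInstance
    exact QCoh.subsingleton_HH_of_iso t q g.symm.toEquiv.subsingleton

theorem subsingleton_fiberH_of_iso (f : X ⟶ S) {M N : X.Modules} (e : M ≅ N) (s : S) (q : ℕ)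
    (hs : Subsingleton (CohIII.fiberH f M s q)) : Subsingleton (CohIII.fiberH f N s q) :=
  QCoh.subsingleton_HH_of_iso ((Scheme.Modules.pullback (f.fiberι s)).mapIso e) q hs

/-- Tensor powers of a module coming by base change. -/
theorem tensorPow_pullback_iso {L : X'.Modules} {L₀ : X.Modules} (e : (Scheme.Modules.pullback p).obj L₀ ≅ L)
    (d : ℕ) : Nonempty ((Scheme.Modules.pullback p).obj (CohB1.tensorPow L₀ d) ≅ CohB1.tensorPow L d) :=
  let ⟨e₁⟩ := AmpleVan.RelVanish.pullback_tensorPow p L₀ d
  let ⟨e₂⟩ := AmpleVan.RelVanish.tensorPow_congr e d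
  ⟨e₁ ≪≫ e₂⟩

end Groth.Agent.ThickVan
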